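import Groth.Prelude.Def_W4c1chowmix47Eta
import Mathlib.RingTheory.Valuation.LocalSubring
import Mathlib.Algebra.CharP.Algebra
import Mathlib.Algebra.CharP.Reduced

/-!
Evaluations of `η.N A` at maps to fields on which `η` is bijective, and the membership criterion
for `η.M A`.
-/

universe u

open EtaPt

namespace GrothLib.EtaPt

variable (η : FieldEndo.{u})

/-- `η` is bijective at the field `L`. -/
abbrev Bij (L : Type u) [Field L] : Prop := Function.Bijective (η.eta L)

theorem exists_pow_eq {K : Type u} [Field K] {L : Type u} [Field L] (h : K →+* L)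
    {x y : L} {n : ℕ} (hxy : x ^ ringExpChar K ^ n = y ^ ringExpChar K ^ n) : x = y := by
  obtain ⟨q, hq⟩ := ExpChar.exists K
  haveI : ExpChar L q := expChar_of_injective_ringHom h.injective q
  rw [ringExpChar.eq K q] at hxy
  exact iterateFrobenius_inj L q n hxy

/-- ring homs out of `F K` into a field are determined on `K`. -/
theorem obj_hom_ext {K L : Type u} [Field K] [Field L] {h h' : η.obj K →+* L}
    (H : h.comp (η.eta K) = h'.comp (η.eta K)) : h = h' := by
  refine RingHom.ext fun x => ?_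
  obtain ⟨n, a, ha⟩ := η.exists_pow_mem_range_eta K x
  refine exists_pow_eq (h.comp (η.eta K)) (n := n) ?_
  rw [← map_pow, ← map_pow, ← ha]
  exact RingHom.congr_fun H a

theorem bij_obj (K : Type u) [Field K] : Bij η (η.obj K) := by
  have h : η.eta (η.obj K) = η.map (η.eta K) :=
    obj_hom_ext η (η.eta_natural (η.eta K)).symm
  show Function.Bijective (η.eta (η.obj K))
  rw [h]; exact η.bijective_map_eta K

theorem bij_of_ringEquiv {K L : Type u} [Field K] [Field L] (e : K ≃+* L) (hK : Bij η K) :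
    Bij η L := by
  have h2 : (η.map e.toRingHom).comp (η.map e.symm.toRingHom) = RingHom.id _ := by
    rw [← η.map_comp]
    convert η.map_id L using 2
    ext; simp
  refine ⟨RingHom.injective _, fun y => ?_⟩
  obtain ⟨x, hx⟩ := hK.2 (η.map e.symm.toRingHom y)
  refine ⟨e x, ?_⟩
  have h3 := RingHom.congr_fun (η.eta_natural e.toRingHom) x
  simp only [RingHom.comp_apply, RingEquiv.toRingHom_eq_coe, RingEquiv.coe_toRingHom] at h3 h2 hx
  rw [← h3, hx]
  exact RingHom.congr_fun h2 y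

/-- The extension of `g : K → L` to `F K → L` when `η` is bijective at `L`. -/
noncomputable def ext {K L : Type u} [Field K] [Field L] (hL : Bij η L) (g : K →+* L) :
    η.obj K →+* L :=
  (RingEquiv.ofBijective (η.eta L) hL).symm.toRingHom.comp (η.map g)

theorem ext_eta {K L : Type u} [Field K] [Field L] (hL : Bij η L) (g : K →+* L) :
    (ext η hL g).comp (η.eta K) = g := by
  refine RingHom.ext fun x => ?_
  have h := RingHom.congr_fun (η.eta_natural g) x
  simp only [RingHom.comp_apply] at h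
  simp only [ext, RingHom.comp_apply, RingEquiv.toRingHom_eq_coe, RingEquiv.coe_toRingHom, h]
  exact (RingEquiv.ofBijective (η.eta L) hL).symm_apply_apply (g x)

theorem ext_eta_apply {K L : Type u} [Field K] [Field L] (hL : Bij η L) (g : K →+* L) (x : K) :
    ext η hL g (η.eta K x) = g x :=
  RingHom.congr_fun (ext_eta η hL g) x

section Ev

variable {A B : Type u} [CommRing A] [CommRing B] {L L' : Type u} [Field L] [Field L']

/-- The point of `Spec A` cut out by a map to a field. -/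
def pt (ψ : A →+* L) : PrimeSpectrum A := ⟨RingHom.ker ψ, RingHom.ker_isPrime ψ⟩

@[simp] theorem mem_pt {ψ : A →+* L} {a : A} : a ∈ (pt ψ).asIdeal ↔ ψ a = 0 := Iff.rfl

theorem primeCompl_pt_le (ψ : A →+* L) :
    (pt ψ).asIdeal.primeCompl ≤ (IsUnit.submonoid L).comap ψ :=
  fun _ hs => isUnit_iff_ne_zero.mpr fun h => hs h

/-- The map from the residue field of the kernel. -/
noncomputable def lift (ψ : A →+* L) : (pt ψ).asIdeal.ResidueField →+* L :=
  Ideal.ResidueField.lift (pt ψ).asIdeal ψ le_rfl (primeCompl_pt_le ψ)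

theorem lift_comp (ψ : A →+* L) : (lift ψ).comp (algebraMap A _) = ψ :=
  RingHom.ext fun a =>
    Ideal.ResidueField.lift_algebraMap (pt ψ).asIdeal ψ le_rfl (primeCompl_pt_le ψ) a

/-- Evaluation of `η.N A` at a map to a field on which `η` is bijective. -/
noncomputable def ev (hL : Bij η L) (ψ : A →+* L) : η.N A →+* L :=
  (ext η hL (lift ψ)).comp
    (Pi.evalRingHom (fun p : PrimeSpectrum A => η.obj p.asIdeal.ResidueField) (pt ψ))

theorem ev_apply_of (hL : Bij η L) (ψ : A →+* L) (p : PrimeSpectrum A)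
    (h : p.asIdeal.ResidueField →+* L) (hh : h.comp (algebraMap A _) = ψ) (x : η.N A) :
    ev η hL ψ x = ext η hL h (x p) := by
  have hp : p = pt ψ := by
    refine PrimeSpectrum.ext (Ideal.ext fun a => ?_)
    rw [mem_pt, ← hh, RingHom.comp_apply, map_eq_zero, Ideal.algebraMap_residueField_eq_zero]
  subst hp
  have : h = lift ψ := Ideal.ResidueField.ringHom_ext (by rw [hh, lift_comp])
  subst this; rfl

theorem ev_t (hL : Bij η L) (ψ : A →+* L) (a : A) : ev η hL ψ (η.t A a) = ψ a := by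
  show ext η hL (lift ψ) (η.eta _ (algebraMap A _ a)) = ψ a
  rw [ext_eta_apply]
  exact RingHom.congr_fun (lift_comp ψ) a

theorem ev_t_comp (hL : Bij η L) (ψ : A →+* L) : (ev η hL ψ).comp (η.t A) = ψ :=
  RingHom.ext (ev_t η hL ψ)

theorem ev_Nmap (hL : Bij η L) (ψ : B →+* L) (f : A →+* B) (x : η.N A) :
    ev η hL ψ (η.Nmap f x) = ev η hL (ψ.comp f) x := by
  let m := Ideal.ResidueField.map (PrimeSpectrum.comap f (pt ψ)).asIdeal (pt ψ).asIdeal f rfl
  rw [ev_apply_of η hL (ψ.comp f) (PrimeSpectrum.comap f (pt ψ)) ((lift ψ).comp m)]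
  · show ext η hL (lift ψ) (η.map m (x (PrimeSpectrum.comap f (pt ψ)))) = _
    rw [← RingHom.comp_apply]
    refine RingHom.congr_fun (obj_hom_ext η ?_) _
    rw [RingHom.comp_assoc, η.eta_natural, ← RingHom.comp_assoc, ext_eta, ext_eta]
  · refine RingHom.ext fun a => ?_
    show lift ψ (m (algebraMap A _ a)) = ψ (f a)
    rw [Ideal.ResidueField.map_algebraMap]
    exact RingHom.congr_fun (lift_comp ψ) (f a)

theorem ev_comp (hL : Bij η L) (hL' : Bij η L') (h : L →+* L') (ψ : A →+* L) (x : η.N A) :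
    ev η hL' (h.comp ψ) x = h (ev η hL ψ x) := by
  rw [ev_apply_of η hL' (h.comp ψ) (pt ψ) (h.comp (lift ψ))
    (by rw [RingHom.comp_assoc, lift_comp])]
  show _ = h (ext η hL (lift ψ) (x (pt ψ)))
  rw [← RingHom.comp_apply]
  refine RingHom.congr_fun (obj_hom_ext η ?_) _
  rw [RingHom.comp_assoc, ext_eta, ext_eta]

theorem ev_eq_zero_iff (hL : Bij η L) (ψ : A →+* L) (x : η.N A) :
    ev η hL ψ x = 0 ↔ x (pt ψ) = 0 := by
  show ext η hL (lift ψ) (x (pt ψ)) = 0 ↔ _
  exact map_eq_zero _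

theorem ev_eq_zero_of_pt (hL : Bij η L) (ψ : A →+* L) {p : PrimeSpectrum A}
    (hp : ∀ a, ψ a = 0 ↔ a ∈ p.asIdeal) (x : η.N A) : ev η hL ψ x = 0 ↔ x p = 0 := by
  have : p = pt ψ := PrimeSpectrum.ext (Ideal.ext fun a => (hp a).symm)
  subst this; exact ev_eq_zero_iff η hL ψ x

/-- The map to `F k(p)`. -/
noncomputable def ptHom (p : PrimeSpectrum A) : A →+* η.obj p.asIdeal.ResidueField :=
  (η.eta p.asIdeal.ResidueField).comp (algebraMap A _)

theorem ptHom_eq_zero (p : PrimeSpectrum A) (a : A) : ptHom η p a = 0 ↔ a ∈ p.asIdeal := by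
  rw [ptHom, RingHom.comp_apply, map_eq_zero, Ideal.algebraMap_residueField_eq_zero]

theorem ev_ptHom (p : PrimeSpectrum A) (x : η.N A) :
    ev η (bij_obj η _) (ptHom η p) x = x p := by
  rw [ev_apply_of η _ (ptHom η p) p (η.eta _) rfl]
  exact RingHom.congr_fun (obj_hom_ext η (h' := RingHom.id _) (ext_eta η _ _)) (x p)

theorem N_ext {x y : η.N A}
    (H : ∀ (L : Type u) [Field L] (hL : Bij η L) (ψ : A →+* L), ev η hL ψ x = ev η hL ψ y) :
    x = y := by
  funext p
  rw [← ev_ptHom η p x, ← ev_ptHom η p y]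
  exact H _ _ _

theorem Nmap_comp_apply {C : Type u} [CommRing C] (f : A →+* B) (g : B →+* C) (x : η.N A) :
    η.Nmap (g.comp f) x = η.Nmap g (η.Nmap f x) :=
  N_ext η fun L _ hL ψ => by simp only [ev_Nmap, RingHom.comp_assoc]

theorem mem_M_iff {x : η.N A} :
    x ∈ η.M A ↔ ∀ (R : Type u) [CommRing R] [IsDomain R] [ValuationRing R], η.InV R →
      ∀ g : A →+* R, ∃ r : R, ∀ (L : Type u) [Field L] (hL : Bij η L) (π : R →+* L),
        ev η hL (π.comp g) x = π r := by
  refine ⟨fun hx R _ _ _ hR g => ?_, fun H R _ _ _ hR g => ?_⟩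
  · obtain ⟨r, hr⟩ := hx R hR g
    refine ⟨r, fun L _ hL π => ?_⟩
    rw [← ev_Nmap, ← hr, ev_t]
  · obtain ⟨r, hr⟩ := H R hR g
    exact ⟨r, N_ext η fun L _ hL π => by rw [ev_t, ev_Nmap, hr L hL π]⟩

theorem Nmap_mem_M (f : A →+* B) {x : η.N A} (hx : x ∈ η.M A) : η.Nmap f x ∈ η.M B := by
  intro R _ _ _ hR g
  rw [← Nmap_comp_apply]
  exact hx R hR (g.comp f)

/-- Functoriality of `M`. -/
noncomputable def Mmap (f : A →+* B) : η.M A →+* η.M B :=
  ((η.Nmap f).comp (η.M A).subtype).codRestrict (η.M B) fun x => Nmap_mem_M η f x.2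

theorem coe_Mmap (f : A →+* B) (x : η.M A) :
    ((Mmap η f x : η.M B) : η.N B) = η.Nmap f (x : η.N A) := rfl

end Ev

section Valuation

variable {A : Type u} [CommRing A] {L : Type u} [Field L]

theorem inV_valuationSubring (hL : Bij η L) (V : ValuationSubring L) : η.InV V :=
  bij_of_ringEquiv η (IsLocalization.algEquiv (nonZeroDivisors V) L (FractionRing V)).toRingEquiv hL

theorem exists_center (ψ : A →+* L) (p : Ideal A) [p.IsPrime] (hp : RingHom.ker ψ ≤ p) :
    ∃ (V : ValuationSubring L) (g : A →+* V), V.subtype.comp g = ψ ∧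
      (IsLocalRing.maximalIdeal V).comap g = p := by
  let S := A ⧸ RingHom.ker ψ
  let ψ' : S →+* L := RingHom.kerLift ψ
  let P : Ideal S := p.map (Ideal.Quotient.mk (RingHom.ker ψ))
  haveI : P.IsPrime :=
    Ideal.map_isPrime_of_surjective Ideal.Quotient.mk_surjective (by simpa using hp)
  have hu : ∀ s : P.primeCompl, IsUnit (ψ' s) := fun s => isUnit_iff_ne_zero.mpr fun h => by
    have : (s : S) = 0 := (RingHom.kerLift_injective ψ) (h.trans (map_zero ψ').symm)
    exact s.2 (this ▸ P.zero_mem)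
  let f : Localization.AtPrime P →+* L := IsLocalization.lift hu
  obtain ⟨V, h, hloc⟩ := IsLocalRing.exists_factor_valuationRing f
  let a : A →+* Localization.AtPrime P :=
    (algebraMap S _).comp (Ideal.Quotient.mk (RingHom.ker ψ))
  refine ⟨V, (f.codRestrict V.toSubring h).comp a, RingHom.ext fun x => ?_, Ideal.ext fun x => ?_⟩
  · show f (algebraMap S _ (Ideal.Quotient.mk _ x)) = ψ x
    rw [IsLocalization.lift_eq hu]; rfl
  · rw [Ideal.mem_comap, IsLocalRing.mem_maximalIdeal]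
    show ¬ IsUnit (f.codRestrict V.toSubring h (a x)) ↔ _
    haveI := hloc
    rw [isUnit_map_iff]
    change a x ∈ nonunits _ ↔ _
    rw [← IsLocalRing.mem_maximalIdeal]
    show algebraMap S _ (Ideal.Quotient.mk _ x) ∈ _ ↔ _
    rw [IsLocalization.AtPrime.to_map_mem_maximal_iff _ P,
      ← Ideal.mem_comap, Ideal.comap_map_of_surjective' _ Ideal.Quotient.mk_surjective,
      Ideal.mk_ker, sup_eq_left.mpr hp]

/-- `0` at the kernel of `ψ₁` forces `0` at every larger prime. -/
theorem ev_eq_zero_of_le {x : η.N A} (hx : x ∈ η.M A) {L₂ : Type u} [Field L₂]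
    (h₁ : Bij η L) (h₂ : Bij η L₂) (ψ₁ : A →+* L) (ψ₂ : A →+* L₂)
    (hle : RingHom.ker ψ₁ ≤ RingHom.ker ψ₂) (h0 : ev η h₁ ψ₁ x = 0) : ev η h₂ ψ₂ x = 0 := by
  haveI : (RingHom.ker ψ₂).IsPrime := RingHom.ker_isPrime ψ₂
  obtain ⟨V, g, hg, hc⟩ := exists_center ψ₁ (RingHom.ker ψ₂) hle
  obtain ⟨r, hr⟩ := (mem_M_iff η).mp hx V (inV_valuationSubring η h₁ V) g
  have h3 := hr L h₁ V.subtype
  rw [hg, h0] at h3
  have hr0 : r = 0 := Subtype.ext h3.symm
  let π := (η.eta (IsLocalRing.ResidueField V)).comp (IsLocalRing.residue V)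
  have h4 := hr _ (bij_obj η _) π
  rw [hr0, map_zero] at h4
  have hker : ∀ a, π.comp g a = 0 ↔ a ∈ (pt ψ₂).asIdeal := fun a => by
    show π (g a) = 0 ↔ a ∈ RingHom.ker ψ₂
    rw [← hc, Ideal.mem_comap, RingHom.comp_apply, map_eq_zero, IsLocalRing.residue_eq_zero_iff]
  rw [ev_eq_zero_iff]
  exact (ev_eq_zero_of_pt η _ _ hker x).mp h4

theorem apply_eq_zero_of_le {x : η.N A} (hx : x ∈ η.M A) {p q : PrimeSpectrum A}
    (hle : p.asIdeal ≤ q.asIdeal) (h0 : x p = 0) : x q = 0 := by
  rw [← ev_ptHom η q x]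
  refine ev_eq_zero_of_le η hx (bij_obj η _) _ (ptHom η p) _ (fun a ha => ?_) (by rw [ev_ptHom]; exact h0)
  rw [RingHom.mem_ker, ptHom_eq_zero] at ha ⊢
  exact hle ha

theorem M_ext {x y : η.N A} (hx : x ∈ η.M A) (hy : y ∈ η.M A)
    (H : ∀ p : PrimeSpectrum A, ∃ p₀ : PrimeSpectrum A, p₀.asIdeal ≤ p.asIdeal ∧ x p₀ = y p₀) :
    x = y := by
  funext p
  obtain ⟨p₀, hle, h⟩ := H p
  rw [← sub_eq_zero]
  exact apply_eq_zero_of_le η (Subring.sub_mem _ hx hy) hle (sub_eq_zero.mpr h)

/-- Elements of `M` have integral values. -/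
theorem isIntegralElem_ev {x : η.N A} (hx : x ∈ η.M A) (hL : Bij η L) (ψ : A →+* L) :
    ψ.IsIntegralElem (ev η hL ψ x) := by
  letI := ψ.toAlgebra
  let C := (integralClosure A L).toSubring
  haveI : IsIntegrallyClosedIn C L := by
    rw [Subring.isIntegrallyClosedIn_iff]
    intro y hy
    exact isIntegral_trans (R := A) (A := integralClosure A L) y hy
  by_contra hne
  obtain ⟨V, hV, hxV⟩ := C.exists_le_valuationSubring_of_isIntegrallyClosedIn (x := ev η hL ψ x) hne
  let g : A →+* V :=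
    ψ.codRestrict V.toSubring fun a => hV (algebraMap_mem (integralClosure A L) a)
  obtain ⟨r, hr⟩ := (mem_M_iff η).mp hx V (inV_valuationSubring η hL V) g
  have h := hr L hL V.subtype
  rw [show V.subtype.comp g = ψ from rfl] at h
  exact hxV (h ▸ r.2)

end Valuation

end GrothLib.EtaPt
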