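import Groth.Agent.Lib.EtaPt.Spec
import Mathlib.FieldTheory.IsAlgClosed.AlgebraicClosure

/-!
Membership in `η.M` descends along surjective integral maps.
-/

universe u

open EtaPt

namespace GrothLib.EtaPt

variable (η : FieldEndo.{u}) {A B : Type u} [CommRing A] [CommRing B]

theorem exists_prime_over {R : Type u} [CommRing R] [IsDomain R] [ValuationRing R]
    {L : Type u} [Field L] (ι : FractionRing R →+* L) (V : ValuationSubring L) (gV : R →+* V)
    (hgV : V.subtype.comp gV = ι.comp (algebraMap R _))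
    (hdom : ∀ z : FractionRing R, ι z ∈ V → ∃ r : R, algebraMap R _ r = z)
    (q : Ideal R) [q.IsPrime] : ∃ P : Ideal V, P.IsPrime ∧ P.comap gV = q := by
  refine (Ideal.comap_map_eq_self_iff_of_isPrime q).mp (le_antisymm ?_ Ideal.le_comap_map)
  let J : Ideal V :=
    { carrier := {v | ∃ a ∈ q, gV a ∣ v}
      zero_mem' := ⟨0, q.zero_mem, dvd_zero _⟩
      add_mem' := fun {v w} ⟨a, ha, hv⟩ ⟨b, hb, hw⟩ => by
        rcases ValuationRing.dvd_total a b with h | h
        · exact ⟨a, ha, dvd_add hv ((map_dvd gV h).trans hw)⟩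
        · exact ⟨b, hb, dvd_add ((map_dvd gV h).trans hv) hw⟩
      smul_mem' := fun c v ⟨a, ha, hv⟩ => ⟨a, ha, hv.mul_left c⟩ }
  have hle : q.map gV ≤ J := Ideal.map_le_iff_le_comap.mpr fun a ha => ⟨a, ha, dvd_rfl⟩
  intro r hr
  obtain ⟨a, ha, w, hw⟩ := hle hr
  have hw' : ι (algebraMap R _ r) = ι (algebraMap R _ a) * w := by
    have := congrArg Subtype.val hw
    rw [MulMemClass.coe_mul] at this
    rwa [← RingHom.comp_apply, ← RingHom.comp_apply, ← hgV]
  by_cases h0 : a = 0
  · rw [h0, map_zero, map_zero, zero_mul, map_eq_zero,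
      map_eq_zero_iff _ (IsFractionRing.injective R (FractionRing R))] at hw'
    exact hw' ▸ q.zero_mem
  · have ha0 : algebraMap R (FractionRing R) a ≠ 0 :=
      (map_ne_zero_iff _ (IsFractionRing.injective R (FractionRing R))).mpr h0
    have hz : ι (algebraMap R _ r / algebraMap R _ a) = w := by
      rw [map_div₀, hw', mul_div_cancel_left₀ _ ((map_ne_zero ι).mpr ha0)]
    obtain ⟨s, hs⟩ := hdom _ (hz ▸ w.2)
    rw [eq_div_iff ha0, ← map_mul] at hs
    rw [← IsFractionRing.injective R _ hs]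
    exact q.mul_mem_left s ha

theorem mem_M_of_Nmap_mem_M {f : A →+* B} (hf : f.IsIntegral)
    (hs : Function.Surjective (PrimeSpectrum.comap f)) {x : η.N A} (hx : η.Nmap f x ∈ η.M B) :
    x ∈ η.M A := by
  intro R _ _ _ hR g
  let K := FractionRing R
  let Kbar := AlgebraicClosure K
  let L := η.obj Kbar
  let ι : K →+* L := (η.eta Kbar).comp (algebraMap K Kbar)
  obtain ⟨V, gV, hgV, hc⟩ := exists_center (ι.comp (algebraMap R K)) (IsLocalRing.maximalIdeal R)
    (fun r hr => by
      rw [RingHom.mem_ker, RingHom.comp_apply, map_eq_zero,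
        map_eq_zero_iff _ (IsFractionRing.injective R K)] at hr
      rw [hr]; exact Ideal.zero_mem _)
  have hdom : ∀ z : K, ι z ∈ V → ∃ r : R, algebraMap R K r = z := by
    intro z hz
    by_cases hz0 : z = 0
    · exact ⟨0, by rw [map_zero, hz0]⟩
    rcases ValuationRing.isInteger_or_isInteger R z with ⟨r, hr⟩ | ⟨r, hr⟩
    · exact ⟨r, hr⟩
    by_cases hu : IsUnit r
    · obtain ⟨u, rfl⟩ := hu
      refine ⟨(↑u⁻¹ : R), inv_injective ?_⟩
      rw [← hr, ← map_units_inv, inv_inv]
    · exfalso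
      have hm : gV r ∈ IsLocalRing.maximalIdeal V := Ideal.mem_comap.mp (hc.symm ▸ hu)
      refine hm (IsUnit.of_mul_eq_one ⟨ι z, hz⟩ (Subtype.ext ?_))
      show (V.subtype.comp gV) r * ι z = 1
      rw [hgV, RingHom.comp_apply, hr, ← map_mul, inv_mul_cancel₀, map_one]
      exact hz0
  -- extend `A → R → Kbar` to `B`
  let ψ : A →+* Kbar := ((algebraMap K Kbar).comp (algebraMap R K)).comp g
  obtain ⟨Q, hQ⟩ := hs (pt ψ)
  let m := Ideal.ResidueField.map (PrimeSpectrum.comap f Q).asIdeal Q.asIdeal f rfl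
  letI := m.toAlgebra
  have hQ' : ∀ a, f a ∈ Q.asIdeal ↔ ψ a = 0 := fun a =>
    SetLike.ext_iff.mp (congrArg PrimeSpectrum.asIdeal hQ) a
  let lp : (PrimeSpectrum.comap f Q).asIdeal.ResidueField →+* Kbar :=
    Ideal.ResidueField.lift _ ψ (fun a ha => (hQ' a).mp ha)
      (fun a ha => isUnit_iff_ne_zero.mpr fun h => ha ((hQ' a).mpr h))
  have hlp : ∀ a, lp (algebraMap A _ a) = ψ a := Ideal.ResidueField.lift_algebraMap _ _ _ _
  letI := lp.toAlgebra
  haveI : Algebra.IsAlgebraic (PrimeSpectrum.comap f Q).asIdeal.ResidueField Q.asIdeal.ResidueField := by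
    refine ⟨fun y => IsIntegral.isAlgebraic ?_⟩
    have hb : ∀ b : B, IsIntegral (PrimeSpectrum.comap f Q).asIdeal.ResidueField
        (algebraMap B Q.asIdeal.ResidueField b) := fun b => by
      obtain ⟨P, hP, hP0⟩ := hf b
      refine ⟨P.map (algebraMap A _), hP.map _, ?_⟩
      rw [Polynomial.eval₂_map]
      have h1 := congrArg (algebraMap B Q.asIdeal.ResidueField) hP0
      rw [Polynomial.hom_eval₂, map_zero] at h1
      have hm : (algebraMap B Q.asIdeal.ResidueField).comp f =
          (algebraMap (PrimeSpectrum.comap f Q).asIdeal.ResidueField Q.asIdeal.ResidueField).comp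
            (algebraMap A _) :=
        RingHom.ext fun a => (Ideal.ResidueField.map_algebraMap (PrimeSpectrum.comap f Q).asIdeal
          Q.asIdeal f rfl a).symm
      rwa [hm] at h1
    obtain ⟨c, d, -, rfl⟩ := IsFractionRing.div_surjective (B ⧸ Q.asIdeal) y
    obtain ⟨c, rfl⟩ := Ideal.Quotient.mk_surjective c
    obtain ⟨d, rfl⟩ := Ideal.Quotient.mk_surjective d
    rw [div_eq_mul_inv]
    exact (hb c).mul (hb d).inv
  let σ : Q.asIdeal.ResidueField →ₐ[(PrimeSpectrum.comap f Q).asIdeal.ResidueField] Kbar :=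
    IsAlgClosed.lift
  let ψB : B →+* L := ((η.eta Kbar).comp σ.toRingHom).comp (algebraMap B _)
  have hψB : ψB.comp f = (ι.comp (algebraMap R K)).comp g := RingHom.ext fun a => by
    show η.eta Kbar (σ (algebraMap B _ (f a))) = η.eta Kbar (ψ a)
    rw [← Ideal.ResidueField.map_algebraMap (PrimeSpectrum.comap f Q).asIdeal Q.asIdeal f rfl a]
    exact congrArg _ ((σ.commutes (algebraMap A _ a)).trans (hlp a))
  have hψV : ∀ b, ψB b ∈ V := fun b => by
    obtain ⟨P, hP, hP0⟩ := hf b
    obtain ⟨v, hv⟩ := IsIntegrallyClosed.isIntegral_iff.mp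
      (⟨P.map (gV.comp g), hP.map _, by
        rw [Polynomial.eval₂_map]
        have h1 := congrArg ψB hP0
        rw [Polynomial.hom_eval₂, map_zero, hψB] at h1
        rwa [← RingHom.comp_assoc, show (algebraMap V L).comp gV = ι.comp (algebraMap R K) from hgV]⟩ :
        IsIntegral V (ψB b))
    exact hv ▸ v.2
  let gB : B →+* V := ψB.codRestrict V.toSubring hψV
  have hgB : gB.comp f = gV.comp g := RingHom.ext fun a => Subtype.ext
    ((RingHom.congr_fun hψB a).trans (RingHom.congr_fun hgV (g a)).symm)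
  obtain ⟨r', hr'⟩ := (mem_M_iff η).mp hx V (inV_valuationSubring η (bij_obj η _) V) gB
  have hr'' : ∀ (L : Type u) [Field L] (hL : Bij η L) (π : V →+* L),
      ev η hL ((π.comp gV).comp g) x = π r' := fun L _ hL π => by
    rw [← hr' L hL π, ev_Nmap, RingHom.comp_assoc, RingHom.comp_assoc, hgB]
  have h0 := hr'' L (bij_obj η _) V.subtype
  rw [hgV, RingHom.comp_assoc, ev_comp η hR (bij_obj η _) ι] at h0
  obtain ⟨r, hr⟩ := hdom _ (show ι _ ∈ V by rw [h0]; exact r'.2)
  have hrr : r' = gV r := Subtype.ext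
    (h0.symm.trans ((congrArg ι hr.symm).trans (RingHom.congr_fun hgV r).symm))
  refine ⟨r, funext fun q => ?_⟩
  obtain ⟨P, hP, hPq⟩ := exists_prime_over ι V gV hgV hdom q.asIdeal
  haveI := hP
  let π := (η.eta P.ResidueField).comp (algebraMap V P.ResidueField)
  have hker : ∀ a, π.comp gV a = 0 ↔ a ∈ q.asIdeal := fun a => by
    show η.eta _ (algebraMap V _ (gV a)) = 0 ↔ _
    rw [map_eq_zero, Ideal.algebraMap_residueField_eq_zero, ← hPq, Ideal.mem_comap]
  rw [← sub_eq_zero]
  refine (ev_eq_zero_of_pt η (bij_obj η _) (π.comp gV) (p := q) hker (η.t R r - η.Nmap g x)).mp ?_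
  rw [map_sub, sub_eq_zero, ev_t, ev_Nmap, hr'' _ (bij_obj η _) π, hrr]
  rfl

end GrothLib.EtaPt
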