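import Groth.Agent.Lib.EtaPt.Spec
import Mathlib.FieldTheory.Perfect

/-!
Elements with a Frobenius power in the base; fields and valuation rings.
-/

universe u

open EtaPt

namespace GrothLib.EtaPt

variable (η : FieldEndo.{u}) {A B : Type u} [CommRing A] [CommRing B]

theorem ringExpChar_eq {K L : Type u} [Field K] [Field L] (h : K →+* L) :
    ringExpChar L = ringExpChar K := by
  obtain ⟨q, hq⟩ := ExpChar.exists K
  haveI : ExpChar L q := expChar_of_injective_ringHom h.injective q
  rw [ringExpChar.eq K q, ringExpChar.eq L q]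

theorem mem_M_of_pow {e n : ℕ} (he : ∀ p : PrimeSpectrum A, ringExpChar p.asIdeal.ResidueField = e)
    {x : η.N A} {a : A} (hx : x ^ e ^ n = η.t A a) : x ∈ η.M A := by
  rw [mem_M_iff]
  intro R _ _ _ hR g
  let K := FractionRing R
  have hL : ∀ (L : Type u) [Field L] (hL : Bij η L) (π : R →+* L),
      ev η hL (π.comp g) x ^ e ^ n = π (g a) := fun L _ hL π => by
    rw [← map_pow, hx, ev_t]; rfl
  have hint : IsIntegral R (ev η (L := K) hR ((algebraMap R K).comp g) x) := by
    have hpos : 0 < e ^ n := Nat.pow_pos (by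
      rw [← he (pt ((algebraMap R K).comp g))]
      exact lt_max_of_lt_right one_pos)
    refine IsIntegral.of_pow hpos ?_
    rw [hL K hR]
    exact isIntegral_algebraMap
  obtain ⟨r, hr⟩ := IsIntegrallyClosed.isIntegral_iff.mp hint
  refine ⟨r, fun L _ hL' π => exists_pow_eq (lift (π.comp g)) (n := n) ?_⟩
  rw [he, hL L hL' π, ← map_pow]
  congr 1
  refine IsFractionRing.injective R K ?_
  rw [map_pow, hr, hL K hR]

theorem M_field_eq_top (K : Type u) [Field K] : η.M K = ⊤ := by
  refine top_unique fun x _ => ?_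
  let p₀ : PrimeSpectrum K := ⟨⊥, Ideal.isPrime_bot⟩
  obtain ⟨n, y, hy⟩ := η.exists_pow_mem_range_eta _ (x p₀)
  have hbm : p₀.asIdeal.IsMaximal := Ideal.bot_isMaximal
  obtain ⟨a, rfl⟩ := Ideal.algebraMap_residueField_surjective p₀.asIdeal y
  refine mem_M_of_pow η (e := ringExpChar K) (n := n)
    (fun p => ringExpChar_eq (algebraMap K _)) (a := a) (funext fun p => ?_)
  have hp : p = p₀ := PrimeSpectrum.ext (Ideal.eq_bot_of_prime p.asIdeal)
  subst hp
  rw [ringExpChar_eq (algebraMap K p₀.asIdeal.ResidueField)] at hy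
  exact hy.symm

section ValuationRingBase

variable {R : Type u} [CommRing R] [IsDomain R] [ValuationRing R]

theorem bij_residueField_bot (hR : η.InV R) : Bij η (⊥ : Ideal R).ResidueField :=
  bij_of_ringEquiv η (IsLocalization.algEquiv (nonZeroDivisors R) (FractionRing R)
    (⊥ : Ideal R).ResidueField).toRingEquiv hR

theorem bij_of_charZero (K : Type u) [Field K] [CharZero K] : Bij η K := by
  refine ⟨RingHom.injective _, fun x => ?_⟩
  obtain ⟨n, y, hy⟩ := η.exists_pow_mem_range_eta K x
  exact ⟨y, by simpa [ringExpChar.eq_one] using hy⟩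

/-- In the valuation ring case every integral element of the generic field lifts to `η.M`. -/
theorem exists_mem_M_of_integral
    (hη : η.InV R ∨ ∀ (k : Type u) [Field k], ringChar k = ringChar R →
      Function.Bijective (η.eta k) → PerfectField k)
    {y : η.obj (⊥ : Ideal R).ResidueField}
    (hy : ((η.eta (⊥ : Ideal R).ResidueField).comp
      (algebraMap R (⊥ : Ideal R).ResidueField)).IsIntegralElem y) :
    ∃ x ∈ η.M R, x ⟨⊥, Ideal.isPrime_bot⟩ = y := by
  let K := (⊥ : Ideal R).ResidueField
  have key : Bij η K → ∃ x ∈ η.M R, x ⟨⊥, Ideal.isPrime_bot⟩ = y := by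
    intro hK
    obtain ⟨y', rfl⟩ := hK.2 y
    obtain ⟨P, hP, hP0⟩ := hy
    rw [← Polynomial.hom_eval₂, map_eq_zero] at hP0
    obtain ⟨r, rfl⟩ := IsIntegrallyClosed.isIntegral_iff.mp
      (⟨P, hP, hP0⟩ : IsIntegral R y')
    exact ⟨η.t R r, η.t_mem_M R r, rfl⟩
  rcases hη with hR | hperf
  · exact key (bij_residueField_bot η hR)
  obtain ⟨q, hq⟩ := ExpChar.exists K
  cases hq with
  | zero => exact key (bij_of_charZero η K)
  | prime hprime =>
    rename_i hchar
    haveI := Fact.mk hprime
    haveI : CharP R q := (algebraMap R K).charP (IsFractionRing.injective R K) q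
    have hres : ∀ p : PrimeSpectrum R, CharP p.asIdeal.ResidueField q := fun p => by
      refine (CharP.charP_iff_prime_eq_zero hprime).mpr ?_
      rw [← map_natCast (algebraMap R p.asIdeal.ResidueField), CharP.cast_eq_zero, map_zero]
    have hobj : ∀ p : PrimeSpectrum R, CharP (η.obj p.asIdeal.ResidueField) q := fun p => by
      haveI := hres p
      exact charP_of_injective_ringHom (η.eta p.asIdeal.ResidueField).injective q
    obtain ⟨n, k0, hk0⟩ := η.exists_pow_mem_range_eta K y
    rw [ringExpChar.eq K q] at hk0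
    obtain ⟨P, hP, hP0⟩ := hy
    have hk : IsIntegral R k0 := by
      letI : Algebra R (η.obj K) := ((η.eta K).comp (algebraMap R K)).toAlgebra
      let φ : K →ₐ[R] η.obj K := { η.eta K with commutes' := fun _ => rfl }
      refine (isIntegral_algHom_iff φ (η.eta K).injective).mp ?_
      show IsIntegral R (η.eta K k0)
      rw [hk0]
      exact IsIntegral.pow ⟨P, hP, hP0⟩ _
    obtain ⟨a, rfl⟩ := IsIntegrallyClosed.isIntegral_iff.mp hk
    have hroot : ∀ p : PrimeSpectrum R, ∃ z : η.obj p.asIdeal.ResidueField,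
        z ^ q ^ n = η.eta _ (algebraMap R _ a) := fun p => by
      haveI := hobj p
      haveI : ExpChar (η.obj p.asIdeal.ResidueField) q := ExpChar.prime hprime
      haveI := hperf (η.obj p.asIdeal.ResidueField)
        ((ringChar.eq _ q).trans (ringChar.eq R q).symm) (bij_obj η _)
      exact ⟨_, (bijective_iterateFrobenius (η.obj p.asIdeal.ResidueField) q n).2 _ |>.choose_spec⟩
    choose x hx using hroot
    refine ⟨x, mem_M_of_pow η (e := q) (n := n) (fun p => ?_) (a := a) (funext hx), ?_⟩
    · haveI := hres p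
      haveI : ExpChar p.asIdeal.ResidueField q := ExpChar.prime hprime
      exact ringExpChar.eq _ q
    · refine exists_pow_eq (η.eta K) (n := n) ?_
      rw [ringExpChar.eq K q, hx ⟨⊥, Ideal.isPrime_bot⟩, hk0]

end ValuationRingBase

end GrothLib.EtaPt
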