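import Groth.Agent.Lib.EtaPt.Spec
import Mathlib.RingTheory.Localization.Away.Basic
import Mathlib.RingTheory.Localization.AsSubring
import Mathlib.RingTheory.Localization.Integral
import Mathlib.RingTheory.Spectrum.Prime.Topology

/-!
The relative construction `η.rel` and its behaviour under localization.
-/

universe u

open EtaPt

namespace GrothLib.EtaPt

variable (η : FieldEndo.{u}) {A B : Type u} [CommRing A] [CommRing B]

theorem mem_rel_iff {f : A →+* B} {b : B} :
    b ∈ η.rel f ↔ ∃ x ∈ η.M A, η.Nmap f x = η.t B b := Iff.rfl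

theorem Nmap_square {A' B' : Type u} [CommRing A'] [CommRing B'] {f : A →+* A'} {j : A →+* B}
    {g : B →+* B'} {j' : A' →+* B'} (h : j'.comp f = g.comp j) (x : η.N A) :
    η.Nmap j' (η.Nmap f x) = η.Nmap g (η.Nmap j x) := by
  rw [← Nmap_comp_apply, ← Nmap_comp_apply, h]

theorem mem_rel_of_square {A' B' : Type u} [CommRing A'] [CommRing B'] {f : A →+* A'} {j : A →+* B}
    {g : B →+* B'} {j' : A' →+* B'} (h : j'.comp f = g.comp j) {b : B} (hb : b ∈ η.rel j) :
    g b ∈ η.rel j' := by
  obtain ⟨x, hx, hb⟩ := (mem_rel_iff η).mp hb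
  exact ⟨η.Nmap f x, Nmap_mem_M η f hx, by rw [Nmap_square η h, hb, η.Nmap_t_apply]⟩

theorem qRel_bijective_iff {f : A →+* B} :
    Function.Bijective (η.qRel f) ↔ Function.Injective f ∧ ∀ b ∈ η.rel f, ∃ a, f a = b := by
  refine ⟨fun h => ⟨fun x y e => h.1 (Subtype.ext e), fun b hb => ?_⟩,
    fun h => ⟨fun x y e => h.1 (congrArg Subtype.val e), fun y => ?_⟩⟩
  · obtain ⟨a, ha⟩ := h.2 ⟨b, hb⟩
    exact ⟨a, congrArg Subtype.val ha⟩
  · obtain ⟨a, ha⟩ := h.2 y.1 y.2
    exact ⟨a, Subtype.ext ha⟩

/-- The map `η.rel f → η.M A`. -/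
noncomputable def relToM (f : A →+* B) (hs : Function.Surjective (PrimeSpectrum.comap f)) :
    η.rel f →+* η.M A :=
  ((η.M A).equivMapOfInjective (η.Nmap f) (Nmap_injective η hs)).symm.toRingHom.comp
    (((η.t B).comp (η.rel f).subtype).codRestrict ((η.M A).map (η.Nmap f)) fun b => b.2)

theorem Nmap_relToM (f : A →+* B) (hs : Function.Surjective (PrimeSpectrum.comap f)) (b : η.rel f) :
    η.Nmap f (relToM η f hs b : η.N A) = η.t B b := by
  set e := (η.M A).equivMapOfInjective (η.Nmap f) (Nmap_injective η hs)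
  have h := congrArg Subtype.val (e.apply_symm_apply
    (((η.t B).comp (η.rel f).subtype).codRestrict ((η.M A).map (η.Nmap f)) (fun b => b.2) b))
  exact h

theorem relToM_comp_qRel (f : A →+* B) (hs : Function.Surjective (PrimeSpectrum.comap f)) :
    (relToM η f hs).comp (η.qRel f) = η.q A :=
  RingHom.ext fun a => Subtype.ext (Nmap_injective η hs (by
    rw [RingHom.comp_apply, Nmap_relToM]
    exact (η.Nmap_t_apply f a).symm))

theorem isNilpotent_of_relToM_eq_zero (f : A →+* B)
    (hs : Function.Surjective (PrimeSpectrum.comap f)) {b : η.rel f}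
    (h : relToM η f hs b = 0) : IsNilpotent b := by
  have h0 := Nmap_relToM η f hs b
  rw [h, ZeroMemClass.coe_zero, map_zero] at h0
  obtain ⟨n, hn⟩ := (t_eq_zero_iff η).mp h0.symm
  exact ⟨n, Subtype.ext (by simpa using hn)⟩

theorem isIntegral_qRel (hA : (minimalPrimes A).Finite) (f : A →+* B)
    (hs : Function.Surjective (PrimeSpectrum.comap f)) : (η.qRel f).IsIntegral := by
  intro b
  obtain ⟨P, hP, hP0⟩ := isIntegral_q η hA (relToM η f hs b)
  rw [← relToM_comp_qRel η f hs, ← Polynomial.hom_eval₂] at hP0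
  obtain ⟨n, hn⟩ := isNilpotent_of_relToM_eq_zero η f hs hP0
  exact ⟨P ^ n, hP.pow n, by rw [Polynomial.eval₂_pow, hn]⟩

theorem comap_relToM_surjective (hA : (minimalPrimes A).Finite) (f : A →+* B)
    (hs : Function.Surjective (PrimeSpectrum.comap f)) :
    Function.Surjective (PrimeSpectrum.comap (relToM η f hs)) := by
  intro Q
  haveI := Q.2
  letI := (relToM η f hs).toAlgebra
  haveI : Algebra.IsIntegral (η.rel f) (η.M A) := ⟨fun x => by
    refine RingHom.IsIntegral.tower_top (η.qRel f) (relToM η f hs) ?_ x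
    rw [relToM_comp_qRel]; exact isIntegral_q η hA⟩
  obtain ⟨P, -, hP, hPQ⟩ := Ideal.exists_ideal_over_prime_of_isIntegral
    (S := η.M A) Q.asIdeal ⊥ (fun b (hb : relToM η f hs b = 0) => by
      obtain ⟨n, hn⟩ := isNilpotent_of_relToM_eq_zero η f hs (b := b) hb
      exact Q.2.mem_of_pow_mem n (hn ▸ Q.asIdeal.zero_mem))
  exact ⟨⟨P, hP⟩, PrimeSpectrum.ext hPQ⟩

theorem comap_qRel_bijective (hA : (minimalPrimes A).Finite) (f : A →+* B)
    (hs : Function.Surjective (PrimeSpectrum.comap f)) :
    Function.Bijective (PrimeSpectrum.comap (η.qRel f)) := by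
  have hc := comap_q_bijective η (A := A) hA
  have key : ∀ P, PrimeSpectrum.comap (η.qRel f) (PrimeSpectrum.comap (relToM η f hs) P) =
      PrimeSpectrum.comap (η.q A) P := fun P => by
    rw [← relToM_comp_qRel η f hs, PrimeSpectrum.comap_comp_apply]
  refine ⟨fun Q Q' h => ?_, fun p => ?_⟩
  · obtain ⟨P, rfl⟩ := comap_relToM_surjective η hA f hs Q
    obtain ⟨P', rfl⟩ := comap_relToM_surjective η hA f hs Q'
    rw [key, key] at h
    rw [hc.1 h]
  · obtain ⟨P, hP⟩ := hc.2 p
    exact ⟨_, (key P).trans hP⟩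

theorem qRel_residue_factor (hA : (minimalPrimes A).Finite) (f : A →+* B)
    (hs : Function.Surjective (PrimeSpectrum.comap f)) (Q : PrimeSpectrum (η.rel f)) :
    ∃ φ : Q.asIdeal.ResidueField →+* η.obj (PrimeSpectrum.comap (η.qRel f) Q).asIdeal.ResidueField,
      φ.comp (Ideal.ResidueField.map (PrimeSpectrum.comap (η.qRel f) Q).asIdeal Q.asIdeal
        (η.qRel f) rfl) =
        η.eta (PrimeSpectrum.comap (η.qRel f) Q).asIdeal.ResidueField := by
  obtain ⟨P, rfl⟩ := comap_relToM_surjective η hA f hs Q
  set p := PrimeSpectrum.comap (η.qRel f) (PrimeSpectrum.comap (relToM η f hs) P) with hp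
  have hP : ∀ m, m ∈ P.asIdeal ↔ evM η p m = 0 := fun m => by
    have h := eq_primeM η hA P
    rw [show PrimeSpectrum.comap (η.q A) P = p by
      rw [hp, ← relToM_comp_qRel η f hs, PrimeSpectrum.comap_comp_apply]] at h
    exact SetLike.ext_iff.mp (congrArg PrimeSpectrum.asIdeal h) m
  refine ⟨Ideal.ResidueField.lift (PrimeSpectrum.comap (relToM η f hs) P).asIdeal
    ((evM η p).comp (relToM η f hs)) (fun x hx => (hP _).mp hx)
    (fun s hs' => isUnit_iff_ne_zero.mpr fun h => hs' ((hP _).mpr h)), ?_⟩
  refine Ideal.ResidueField.ringHom_ext (RingHom.ext fun a => ?_)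
  simp only [RingHom.comp_apply, Ideal.ResidueField.map_algebraMap,
    Ideal.ResidueField.lift_algebraMap]
  exact congrArg (evM η p) (RingHom.congr_fun (relToM_comp_qRel η f hs) a)

section Away

variable (f : A)

theorem comap_away_mem (q : PrimeSpectrum (Localization.Away f)) :
    f ∉ (PrimeSpectrum.comap (algebraMap A (Localization.Away f)) q).asIdeal := fun h =>
  q.2.ne_top (Ideal.eq_top_of_isUnit_mem _ h (IsLocalization.Away.algebraMap_isUnit f))

theorem Nmap_away_surjective : Function.Surjective (η.Nmap (algebraMap A (Localization.Away f))) := by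
  intro y
  set j := algebraMap A (Localization.Away f)
  have hinj : Function.Injective (PrimeSpectrum.comap j) :=
    PrimeSpectrum.localization_comap_injective _ (Submonoid.powers f)
  have hsurj : ∀ q, Function.Surjective
      (η.map (Ideal.ResidueField.map (PrimeSpectrum.comap j q).asIdeal q.asIdeal j rfl)) := by
    intro q z
    have hb : Function.Bijective
        (Ideal.ResidueField.map (PrimeSpectrum.comap j q).asIdeal q.asIdeal j rfl) :=
      (RingHom.surjectiveOnStalks_of_isLocalization (Submonoid.powers f) _).residueFieldMap_bijective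
        _ _ rfl
    let e := RingEquiv.ofBijective _ hb
    refine ⟨η.map e.symm.toRingHom z, ?_⟩
    rw [← RingHom.comp_apply, ← η.map_comp]
    have : (Ideal.ResidueField.map (PrimeSpectrum.comap j q).asIdeal q.asIdeal j rfl).comp
        e.symm.toRingHom = RingHom.id _ := RingHom.ext e.apply_symm_apply
    rw [this, η.map_id]; rfl
  have : ∀ p : PrimeSpectrum A, ∃ z : η.obj p.asIdeal.ResidueField, ∀ (q) (e : p = PrimeSpectrum.comap j q),
      η.map (Ideal.ResidueField.map p.asIdeal q.asIdeal j (by rw [e]; rfl)) z = y q := by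
    intro p
    by_cases hp : ∃ q, p = PrimeSpectrum.comap j q
    · obtain ⟨q₀, rfl⟩ := hp
      obtain ⟨z, hz⟩ := hsurj q₀ (y q₀)
      exact ⟨z, fun q e => by obtain rfl := hinj e; exact hz⟩
    · exact ⟨0, fun q e => absurd ⟨q, e⟩ hp⟩
  choose x hx using this
  exact ⟨x, funext fun q => hx _ q rfl⟩

theorem Nmap_away_eq_zero {x : η.N A}
    (h : η.Nmap (algebraMap A (Localization.Away f)) x = 0) : η.t A f * x = 0 := by
  funext p
  show η.t A f p * x p = 0
  by_cases hp : f ∈ p.asIdeal
  · have : η.t A f p = 0 := by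
      show η.eta _ (algebraMap A _ f) = 0
      rw [Ideal.algebraMap_residueField_eq_zero.mpr hp, map_zero]
    rw [this, zero_mul]
  · obtain ⟨q, rfl⟩ : p ∈ Set.range (PrimeSpectrum.comap (algebraMap A (Localization.Away f))) := by
      rw [PrimeSpectrum.localization_away_comap_range (Localization.Away f) f]
      exact hp
    have h2 := congrFun h q
    change η.map _ (x (PrimeSpectrum.comap (algebraMap A (Localization.Away f)) q)) = 0 at h2
    rw [(map_eq_zero _).mp h2, mul_zero]

theorem finite_minimalPrimes_away (hA : (minimalPrimes A).Finite) :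
    (minimalPrimes (Localization.Away f)).Finite := by
  rw [show minimalPrimes (Localization.Away f) =
    ((⊥ : Ideal A).map (algebraMap A (Localization.Away f))).minimalPrimes by rw [Ideal.map_bot],
    IsLocalization.minimalPrimes_map (Submonoid.powers f)]
  exact hA.preimage fun P _ Q _ h => by
    rw [← IsLocalization.map_under (Submonoid.powers f) _ P, h,
      IsLocalization.map_under (Submonoid.powers f)]

theorem exists_lift_M_away (hA : (minimalPrimes A).Finite) {y : η.N (Localization.Away f)}
    (hy : y ∈ η.M (Localization.Away f)) :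
    ∃ x ∈ η.M A, ∃ n : ℕ, y * η.t _ (algebraMap A (Localization.Away f) f) ^ n =
      η.Nmap (algebraMap A (Localization.Away f)) x := by
  set j := algebraMap A (Localization.Away f)
  obtain ⟨P, hP, hP0⟩ := isIntegral_q η (finite_minimalPrimes_away f hA) ⟨y, hy⟩
  letI : Algebra (Localization.Away f) (η.M (Localization.Away f)) := (η.q _).toAlgebra
  letI : Algebra A (η.M (Localization.Away f)) := ((η.q _).comp j).toAlgebra
  haveI : IsScalarTower A (Localization.Away f) (η.M (Localization.Away f)) :=
    .of_algebraMap_eq fun _ => rfl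
  have hint : IsIntegral (Localization.Away f) (⟨y, hy⟩ : η.M (Localization.Away f)) := ⟨P, hP, hP0⟩
  obtain ⟨⟨_, k, rfl⟩, hk⟩ := IsIntegral.exists_multiple_integral_of_isLocalization
    (R := A) (Submonoid.powers f) (Rₘ := Localization.Away f) _ hint
  obtain ⟨x₀, hx₀⟩ := Nmap_away_surjective η f (y * η.t _ (j f) ^ k)
  refine ⟨η.t A f * x₀, ?_, k + 1, ?_⟩
  · rw [mem_M_iff]
    intro R _ _ _ hR g
    by_cases hgf : g f = 0
    · refine ⟨0, fun L _ hL π => ?_⟩
      rw [map_mul, ev_t, RingHom.comp_apply, hgf, map_zero, zero_mul]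
    let K := FractionRing R
    have hu : IsUnit ((algebraMap R K).comp g f) :=
      isUnit_iff_ne_zero.mpr fun h => hgf ((IsFractionRing.injective R K) (h.trans (map_zero _).symm))
    let g₁ : Localization.Away f →+* K := IsLocalization.Away.lift f hu
    have hg₁ : g₁.comp j = (algebraMap R K).comp g := IsLocalization.Away.lift_comp f hu
    let φ := (ev η (L := K) hR g₁).comp (η.M (Localization.Away f)).subtype
    obtain ⟨Q, hQ, hQ0⟩ := hk
    have hz : IsIntegral R (ev η (L := K) hR ((algebraMap R K).comp g) x₀) := by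
      refine ⟨Q.map g, hQ.map g, ?_⟩
      rw [Polynomial.eval₂_map, ← hg₁, ← ev_Nmap, hx₀]
      have h1 := congrArg φ hQ0
      rw [Polynomial.hom_eval₂, map_zero] at h1
      have hcomp : φ.comp (algebraMap A (η.M (Localization.Away f))) = g₁.comp j :=
        RingHom.ext fun a => ev_t η hR g₁ (j a)
      have hval : φ (algebraMap A (η.M (Localization.Away f)) (f ^ k) * ⟨y, hy⟩) =
          ev η hR g₁ (y * η.t (Localization.Away f) (j f) ^ k) := by
        rw [mul_comm y, ← map_pow, ← map_pow]; rfl
      simp only [Submonoid.smul_def, Algebra.smul_def] at h1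
      erw [hcomp, hval] at h1
      exact h1
    obtain ⟨z, hz⟩ := IsIntegrallyClosed.isIntegral_iff.mp hz
    refine ⟨g f * z, fun L _ hL π => ?_⟩
    rw [map_mul, map_mul, ev_t, RingHom.comp_apply]
    by_cases hπ : π (g f) = 0
    · rw [hπ, zero_mul, zero_mul]
    congr 1
    -- transport through the localization of `R` at `ker π`
    haveI : (RingHom.ker π).IsPrime := RingHom.ker_isPrime π
    let S := (RingHom.ker π).primeCompl
    have hS : S ≤ nonZeroDivisors R := Ideal.primeCompl_le_nonZeroDivisors _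
    let Sub := Localization.subalgebra.ofField K S hS
    haveI : IsLocalization S Sub := Localization.subalgebra.isLocalization_ofField K S hS
    let V : ValuationSubring K :=
      { Sub.toSubring with
        mem_or_inv_mem' := fun x => (ValuationRing.isInteger_or_isInteger R x).imp
          (fun ⟨r, hr⟩ => hr ▸ Sub.algebraMap_mem r) (fun ⟨r, hr⟩ => hr ▸ Sub.algebraMap_mem r) }
    let iV : R →+* V := algebraMap R Sub
    have huV : IsUnit (iV.comp g f) := IsLocalization.map_units Sub (⟨g f, hπ⟩ : S)
    let g₂ : Localization.Away f →+* V := IsLocalization.Away.lift f huV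
    have hg₂ : g₂.comp j = iV.comp g := IsLocalization.Away.lift_comp f huV
    have huS : ∀ s : S, IsUnit (π s) := fun s => isUnit_iff_ne_zero.mpr s.2
    let π₂' : Sub →+* L := IsLocalization.lift (M := S) (S := Sub) huS
    let π₂ : V →+* L := π₂'
    have hπ₂' : π₂'.comp (algebraMap R Sub) = π := IsLocalization.lift_comp huS
    have hπ₂ : π₂.comp iV = π := hπ₂'
    obtain ⟨r, hr⟩ := (mem_M_iff η).mp (Subring.mul_mem _ hy (Subring.pow_mem _ (η.t_mem_M _ (j f)) k))
      V (inV_valuationSubring η hR V) g₂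
    have hgen := hr K hR V.subtype
    rw [← hx₀, ev_Nmap, RingHom.comp_assoc, hg₂, ← RingHom.comp_assoc,
      show V.subtype.comp iV = algebraMap R K from rfl, ← hz] at hgen
    have hrz : r = iV z := Subtype.ext hgen.symm
    have hspec := hr L hL π₂
    rw [← hx₀, ev_Nmap, RingHom.comp_assoc, hg₂, ← RingHom.comp_assoc, hπ₂, hrz,
      ← RingHom.comp_apply, hπ₂] at hspec
    exact hspec
  · rw [map_mul, η.Nmap_t_apply, hx₀]; ring

end Away

end GrothLib.EtaPt
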