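import Groth.Agent.Lib.EtaPt.Rel
import Groth.Prelude.Def_HTop2
import Mathlib.AlgebraicGeometry.Morphisms.Integral
import Mathlib.AlgebraicGeometry.Morphisms.UniversallyInjective

/-!
Universal homeomorphisms with isomorphic residue fields between affine schemes.
-/

universe u

open CategoryTheory AlgebraicGeometry

namespace GrothLib.EtaPt

variable {A B : Type u} [CommRing A] [CommRing B] (φ : A →+* B)

/-- All residue field maps of a ring map are bijective. -/
def ResBij : Prop :=
  ∀ Q : PrimeSpectrum B, Function.Bijective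
    (Ideal.ResidueField.map (PrimeSpectrum.comap φ Q).asIdeal Q.asIdeal φ rfl)

theorem residueFieldMap_spec (Q : PrimeSpectrum B) :
    (Scheme.Spec.residueFieldIso (.of A) (PrimeSpectrum.comap φ Q)).inv ≫
      (Spec.map (CommRingCat.ofHom φ)).residueFieldMap Q =
    CommRingCat.ofHom (Ideal.ResidueField.map (PrimeSpectrum.comap φ Q).asIdeal Q.asIdeal φ rfl) ≫
      (Scheme.Spec.residueFieldIso (.of B) Q).inv := by
  have h : CommRingCat.ofHom (algebraMap A (PrimeSpectrum.comap φ Q).asIdeal.ResidueField) ≫
      (Scheme.Spec.residueFieldIso (.of A) (PrimeSpectrum.comap φ Q)).inv ≫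
        (Spec.map (CommRingCat.ofHom φ)).residueFieldMap Q =
      CommRingCat.ofHom (algebraMap A (PrimeSpectrum.comap φ Q).asIdeal.ResidueField) ≫
      CommRingCat.ofHom (Ideal.ResidueField.map (PrimeSpectrum.comap φ Q).asIdeal Q.asIdeal φ rfl) ≫
      (Scheme.Spec.residueFieldIso (.of B) Q).inv := by
    rw [← Category.assoc]
    erw [Scheme.Spec.algebraMap_residueFieldIso_inv]
    simp only [Category.assoc]
    erw [Scheme.residue_residueFieldMap]
    erw [Scheme.Hom.germ_stalkMap_assoc]
    rw [← Category.assoc (CommRingCat.ofHom (algebraMap A _)), ← CommRingCat.ofHom_comp,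
      show (Ideal.ResidueField.map (PrimeSpectrum.comap φ Q).asIdeal Q.asIdeal φ rfl).comp
        (algebraMap A _) = (algebraMap B Q.asIdeal.ResidueField).comp φ from
        RingHom.ext fun a => Ideal.ResidueField.map_algebraMap _ _ φ rfl a,
      CommRingCat.ofHom_comp, Category.assoc]
    erw [Scheme.Spec.algebraMap_residueFieldIso_inv]
    rw [Scheme.ΓSpecIso_inv_naturality_assoc]
    rfl
  exact CommRingCat.hom_ext (Ideal.ResidueField.ringHom_ext (congrArg CommRingCat.Hom.hom h))

theorem residueFieldsIso_iff :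
    HTop.ResidueFieldsIso (Spec.map (CommRingCat.ofHom φ)) ↔ ResBij φ := by
  refine forall_congr' fun Q => ?_
  have h := residueFieldMap_spec φ Q
  refine (isIso_comp_left_iff (Scheme.Spec.residueFieldIso (.of A) (PrimeSpectrum.comap φ Q)).inv
    ((Spec.map (CommRingCat.ofHom φ)).residueFieldMap Q)).symm.trans ?_
  erw [h]
  exact (isIso_comp_right_iff _ _).trans (ConcreteCategory.isIso_iff_bijective _)

theorem isUnivHomeo_spec (hi : φ.IsIntegral) (hb : Function.Bijective (PrimeSpectrum.comap φ))
    (hr : ResBij φ) : FlatMor.IsUnivHomeo (Spec.map (CommRingCat.ofHom φ)) := by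
  have hres : HTop.ResidueFieldsIso (Spec.map (CommRingCat.ofHom φ)) := (residueFieldsIso_iff φ).mpr hr
  haveI : IsIntegralHom (Spec.map (CommRingCat.ofHom φ)) := IsIntegralHom.SpecMap_iff.mpr hi
  haveI : Surjective (Spec.map (CommRingCat.ofHom φ)) := ⟨hb.2⟩
  haveI : UniversallyInjective (Spec.map (CommRingCat.ofHom φ)) := by
    have h20 : UniversallyInjective (Spec.map (CommRingCat.ofHom φ)) ↔
        Function.Injective (Spec.map (CommRingCat.ofHom φ)) ∧
          ∀ x, ((Spec.map (CommRingCat.ofHom φ)).residueFieldMap x).hom.IsPurelyInseparable :=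
      (tfae_universallyInjective (Spec.map (CommRingCat.ofHom φ))).out 0 2
    refine h20.mpr ⟨hb.1, fun x => ?_⟩
    haveI := hres x
    have hbij := ConcreteCategory.bijective_of_isIso
      ((Spec.map (CommRingCat.ofHom φ)).residueFieldMap x)
    algebraize [((Spec.map (CommRingCat.ofHom φ)).residueFieldMap x).hom]
    show IsPurelyInseparable ((Spec (CommRingCat.of A)).residueField _)
      ((Spec (CommRingCat.of B)).residueField x)
    refine (isPurelyInseparable_iff_pow_mem _
      (ringExpChar ((Spec (CommRingCat.of A)).residueField ((Spec.map (CommRingCat.ofHom φ)) x)))).mpr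
      fun y => ?_
    obtain ⟨z, hz⟩ := hbij.2 y
    exact ⟨0, z, by rw [pow_zero, pow_one]; exact hz⟩
  intro X' Y' i₁ i₂ f' h
  haveI : UniversallyInjective f' := MorphismProperty.of_isPullback h.flip inferInstance
  haveI : Surjective f' := MorphismProperty.of_isPullback h.flip inferInstance
  haveI : IsIntegralHom f' := MorphismProperty.of_isPullback h.flip inferInstance
  show IsHomeomorph f'
  exact isHomeomorph_iff_continuous_isClosedMap_bijective.mpr
    ⟨f'.continuous, f'.isClosedMap, f'.injective, f'.surjective⟩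

theorem of_isUnivHomeo (h : FlatMor.IsUnivHomeo (Spec.map (CommRingCat.ofHom φ))) :
    φ.IsIntegral ∧ Function.Bijective (PrimeSpectrum.comap φ) := by
  refine ⟨(IsIntegralHom.SpecMap_iff (φ := CommRingCat.ofHom φ)).mp
    (IsIntegralHom.iff_universallyClosed_and_isAffineHom.mpr ⟨⟨?_⟩, inferInstance⟩), ?_⟩
  · exact MorphismProperty.universally_mono (fun _ _ g hg => hg.isClosedMap) _ h
  · exact (h (𝟙 _) (𝟙 _) _ IsPullback.of_id_snd).bijective

end GrothLib.EtaPt
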