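import Groth.Agent.Lib.EtaPt.Basic
import Mathlib.RingTheory.Spectrum.Prime.Topology
import Mathlib.RingTheory.Ideal.MinimalPrime.Basic
import Mathlib.RingTheory.Polynomial.RationalRoot
import Mathlib.Algebra.GCDMonoid.IntegrallyClosed
import Mathlib.RingTheory.Bezout

/-!
The spectrum of `η.M A`, bijectivity of `η.Nmap`, and the relative construction.
-/

universe u

open EtaPt

namespace GrothLib.EtaPt

variable (η : FieldEndo.{u}) {A B : Type u} [CommRing A] [CommRing B]

theorem Nmap_injective {f : A →+* B} (hs : Function.Surjective (PrimeSpectrum.comap f)) :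
    Function.Injective (η.Nmap f) := by
  intro x y h
  funext p
  obtain ⟨q, rfl⟩ := hs p
  exact RingHom.injective _ (congrFun h q)

theorem comap_surjective_of_Nmap_injective {f : A →+* B}
    (hi : Function.Injective (η.Nmap f)) : Function.Surjective (PrimeSpectrum.comap f) := by
  classical
  intro p
  by_contra hne
  have h : η.Nmap f (Pi.single p 1) = η.Nmap f 0 := by
    funext q
    have hq : PrimeSpectrum.comap f q ≠ p := fun e => hne ⟨q, e⟩
    show η.map _ (Pi.single (M := fun p : PrimeSpectrum A => η.obj p.asIdeal.ResidueField) p 1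
      (PrimeSpectrum.comap f q)) = η.map _ 0
    rw [Pi.single_eq_of_ne hq]
  have h1 := congrFun (hi h) p
  rw [Pi.single_eq_same] at h1
  exact one_ne_zero h1

theorem comap_injective_of_Nmap_surjective {f : A →+* B}
    (hs : Function.Surjective (η.Nmap f)) : Function.Injective (PrimeSpectrum.comap f) := by
  classical
  intro q q' h
  by_contra hne
  obtain ⟨x, hx⟩ := hs (Pi.single q 1)
  have hq : η.Nmap f x q ≠ 0 := by rw [hx, Pi.single_eq_same]; exact one_ne_zero
  have hq' : η.Nmap f x q' = 0 := by rw [hx, Pi.single_eq_of_ne (Ne.symm hne)]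
  have key : ∀ p : PrimeSpectrum A, p = PrimeSpectrum.comap f q →
      (x p = 0 ↔ x (PrimeSpectrum.comap f q) = 0) := by rintro p rfl; rfl
  have h1 : x (PrimeSpectrum.comap f q') = 0 := by
    change η.map _ (x (PrimeSpectrum.comap f q')) = 0 at hq'
    exact (map_eq_zero _).mp hq'
  rw [key _ h.symm] at h1
  refine hq ?_
  show η.map _ (x (PrimeSpectrum.comap f q)) = 0
  exact (map_eq_zero _).mpr h1

/-- The residue field criterion for bijectivity of `η.Nmap`. -/
theorem Nmap_bijective {f : A →+* B} (hb : Function.Bijective (PrimeSpectrum.comap f))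
    (hφ : ∀ Q : PrimeSpectrum B,
      ∃ φ : Q.asIdeal.ResidueField →+* η.obj (PrimeSpectrum.comap f Q).asIdeal.ResidueField,
        φ.comp (Ideal.ResidueField.map (PrimeSpectrum.comap f Q).asIdeal Q.asIdeal f rfl) =
          η.eta (PrimeSpectrum.comap f Q).asIdeal.ResidueField) :
    Function.Bijective (η.Nmap f) := by
  refine ⟨Nmap_injective η hb.2, fun y => ?_⟩
  have hsurj : ∀ Q : PrimeSpectrum B, Function.Surjective
      (η.map (Ideal.ResidueField.map (PrimeSpectrum.comap f Q).asIdeal Q.asIdeal f rfl)) := by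
    intro Q z
    obtain ⟨φ, h⟩ := hφ Q
    obtain ⟨x, hx⟩ := (η.bijective_map_eta _).2 (η.map φ z)
    refine ⟨x, (η.map φ).injective ?_⟩
    rw [← RingHom.comp_apply, ← η.map_comp, h, hx]
  have : ∀ p : PrimeSpectrum A, ∃ z : η.obj p.asIdeal.ResidueField, ∀ (Q : PrimeSpectrum B)
      (e : p = PrimeSpectrum.comap f Q),
      η.map (Ideal.ResidueField.map p.asIdeal Q.asIdeal f (by rw [e]; rfl)) z = y Q := by
    intro p
    obtain ⟨Q₀, rfl⟩ := hb.2 p
    obtain ⟨z, hz⟩ := hsurj Q₀ (y Q₀)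
    exact ⟨z, fun Q e => by obtain rfl := hb.1 e; exact hz⟩
  choose x hx using this
  exact ⟨x, funext fun Q => hx _ Q rfl⟩

/-- A map with bijective `Nmap` extends maps into fields at which `η` is bijective. -/
theorem existsUnique_extend {f : A →+* B} (hN : Function.Bijective (η.Nmap f)) {L : Type u}
    [Field L] (hL : Bij η L) (ψ : A →+* L) : ∃! ψ' : B →+* L, ψ'.comp f = ψ := by
  let e := RingEquiv.ofBijective (η.Nmap f) hN
  refine ⟨(ev η hL ψ).comp (e.symm.toRingHom.comp (η.t B)), RingHom.ext fun a => ?_, ?_⟩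
  · show ev η hL ψ (e.symm (η.t B (f a))) = ψ a
    rw [← η.Nmap_t_apply]
    erw [e.symm_apply_apply]
    rw [ev_t]
  · intro ψ'' h
    refine RingHom.ext fun b => ?_
    show ψ'' b = ev η hL ψ (e.symm (η.t B b))
    have hb : η.Nmap f (e.symm (η.t B b)) = η.t B b := e.apply_symm_apply _
    rw [← h, ← ev_Nmap, hb, ev_t]

theorem t_eq_zero_iff {a : A} : η.t A a = 0 ↔ IsNilpotent a := by
  rw [← mem_nilradical, nilradical_eq_sInf, Submodule.mem_sInf]
  refine ⟨fun h (P : Ideal A) (hP : P.IsPrime) => ?_, fun h => funext fun p => ?_⟩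
  · haveI : P.IsPrime := hP
    have : η.eta _ (algebraMap A P.ResidueField a) = 0 := congrFun h ⟨P, hP⟩
    rwa [map_eq_zero, Ideal.algebraMap_residueField_eq_zero] at this
  · show η.eta _ (algebraMap A _ a) = 0
    rw [map_eq_zero, Ideal.algebraMap_residueField_eq_zero]
    exact h p.asIdeal p.2

theorem isNilpotent_of_q_eq_zero {a : A} (h : η.q A a = 0) : IsNilpotent a :=
  (t_eq_zero_iff η).mp (congrArg (Subtype.val) h)

/-- Evaluation of `η.M A` at a prime. -/
noncomputable def evM (p : PrimeSpectrum A) : η.M A →+* η.obj p.asIdeal.ResidueField :=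
  (Pi.evalRingHom (fun p : PrimeSpectrum A => η.obj p.asIdeal.ResidueField) p).comp (η.M A).subtype

theorem evM_comp_q (p : PrimeSpectrum A) : (evM η p).comp (η.q A) = ptHom η p := rfl

/-- The prime of `η.M A` at `p`. -/
noncomputable def primeM (p : PrimeSpectrum A) : PrimeSpectrum (η.M A) := pt (evM η p)

theorem comap_primeM (p : PrimeSpectrum A) : PrimeSpectrum.comap (η.q A) (primeM η p) = p :=
  PrimeSpectrum.ext (Ideal.ext fun a => ptHom_eq_zero η p a)

theorem exists_minimal_le (p : PrimeSpectrum A) :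
    ∃ p₀ : PrimeSpectrum A, p₀.asIdeal ∈ minimalPrimes A ∧ p₀.asIdeal ≤ p.asIdeal := by
  haveI := p.2
  obtain ⟨P, hP, hle⟩ := Ideal.exists_minimalPrimes_le (I := ⊥) (J := p.asIdeal) bot_le
  exact ⟨⟨P, hP.1.1⟩, hP, hle⟩

theorem finite_minimal_points (hA : (minimalPrimes A).Finite) :
    {p : PrimeSpectrum A | p.asIdeal ∈ minimalPrimes A}.Finite :=
  hA.preimage (fun _ _ _ _ h => PrimeSpectrum.ext h)

theorem isIntegral_q (hA : (minimalPrimes A).Finite) : (η.q A).IsIntegral := by
  intro x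
  classical
  choose P hP hP0 using fun p : PrimeSpectrum A =>
    isIntegralElem_ev η x.2 (bij_obj η p.asIdeal.ResidueField) (ptHom η p)
  let S := (finite_minimal_points hA).toFinset
  refine ⟨∏ p ∈ S, P p, Polynomial.monic_prod_of_monic _ _ fun p _ => hP p, ?_⟩
  rw [Polynomial.eval₂_finsetProd]
  refine Subtype.ext (funext fun p => ?_)
  obtain ⟨p₀, hmin, hle⟩ := exists_minimal_le p
  refine apply_eq_zero_of_le η (Subtype.mem _) hle ?_
  show evM η p₀ (∏ i ∈ S, Polynomial.eval₂ (η.q A) x (P i)) = 0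
  rw [map_prod]
  refine Finset.prod_eq_zero (i := p₀) ((Set.Finite.mem_toFinset _).mpr hmin) ?_
  rw [Polynomial.hom_eval₂, evM_comp_q]
  have := hP0 p₀
  rwa [ev_ptHom] at this

theorem eq_primeM (hA : (minimalPrimes A).Finite) (Q : PrimeSpectrum (η.M A)) :
    Q = primeM η (PrimeSpectrum.comap (η.q A) Q) := by
  haveI := Q.2
  obtain ⟨p₀, -, hp₀⟩ : ∃ p₀ ∈ (finite_minimal_points hA).toFinset,
      RingHom.ker (evM η p₀) ≤ Q.asIdeal := by
    refine (Ideal.IsPrime.inf_le' inferInstance).mp fun x hx => ?_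
    rw [Submodule.mem_finsetInf] at hx
    have : x = 0 := Subtype.ext (M_ext η x.2 (Subring.zero_mem _) fun p => by
      obtain ⟨p₀, hmin, hle⟩ := exists_minimal_le p
      exact ⟨p₀, hle, hx p₀ ((Set.Finite.mem_toFinset _).mpr hmin)⟩)
    exact this ▸ Q.asIdeal.zero_mem
  obtain ⟨V, g', hg', hc⟩ := exists_center (evM η p₀) Q.asIdeal hp₀
  refine PrimeSpectrum.ext (Ideal.ext fun x => ?_)
  let g := g'.comp (η.q A)
  obtain ⟨r, hr⟩ := (mem_M_iff η).mp x.2 V (inV_valuationSubring η (bij_obj η _) V) g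
  have h1 := hr _ (bij_obj η _) V.subtype
  rw [show V.subtype.comp g = ptHom η p₀ by rw [← RingHom.comp_assoc, hg', evM_comp_q],
    ev_ptHom] at h1
  have hrx : r = g' x := Subtype.ext (h1.symm.trans (RingHom.congr_fun hg' x).symm)
  let π := (η.eta (IsLocalRing.ResidueField V)).comp (IsLocalRing.residue V)
  have h2 := hr _ (bij_obj η _) π
  have hker : ∀ a, π.comp g a = 0 ↔ a ∈ (PrimeSpectrum.comap (η.q A) Q).asIdeal := fun a => by
    show π (g' (η.q A a)) = 0 ↔ η.q A a ∈ Q.asIdeal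
    rw [← hc, Ideal.mem_comap, RingHom.comp_apply, map_eq_zero, IsLocalRing.residue_eq_zero_iff]
  have hxQ : x ∈ Q.asIdeal ↔ π (g' x) = 0 := by
    rw [← hc, Ideal.mem_comap, RingHom.comp_apply, map_eq_zero, IsLocalRing.residue_eq_zero_iff]
  rw [hxQ, ← hrx, ← h2, ev_eq_zero_of_pt η _ _ hker]
  rfl

theorem comap_q_bijective (hA : (minimalPrimes A).Finite) :
    Function.Bijective (PrimeSpectrum.comap (η.q A)) :=
  ⟨fun Q Q' h => by rw [eq_primeM η hA Q, eq_primeM η hA Q', h],
    fun p => ⟨primeM η p, comap_primeM η p⟩⟩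

theorem q_residue_factor (hA : (minimalPrimes A).Finite) (Q : PrimeSpectrum (η.M A)) :
    ∃ φ : Q.asIdeal.ResidueField →+* η.obj (PrimeSpectrum.comap (η.q A) Q).asIdeal.ResidueField,
      φ.comp (Ideal.ResidueField.map (PrimeSpectrum.comap (η.q A) Q).asIdeal Q.asIdeal (η.q A) rfl) =
        η.eta (PrimeSpectrum.comap (η.q A) Q).asIdeal.ResidueField := by
  have hQ := congrArg PrimeSpectrum.asIdeal (eq_primeM η hA Q)
  let p := PrimeSpectrum.comap (η.q A) Q
  refine ⟨Ideal.ResidueField.lift Q.asIdeal (evM η p) (le_of_eq hQ) (fun s hs =>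
    isUnit_iff_ne_zero.mpr fun h => hs (hQ.symm ▸ (h : s ∈ (primeM η p).asIdeal))), ?_⟩
  refine Ideal.ResidueField.ringHom_ext (RingHom.ext fun a => ?_)
  simp only [RingHom.comp_apply, Ideal.ResidueField.map_algebraMap,
    Ideal.ResidueField.lift_algebraMap]
  rfl

theorem Nmap_q_bijective (hA : (minimalPrimes A).Finite) : Function.Bijective (η.Nmap (η.q A)) :=
  Nmap_bijective η (comap_q_bijective η hA) (q_residue_factor η hA)

theorem Nmap_q_eq_t (hA : (minimalPrimes A).Finite) (x : η.M A) :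
    η.Nmap (η.q A) (x : η.N A) = η.t (η.M A) x := by
  have : ∀ p, ev η (bij_obj η _) (evM η p) (η.Nmap (η.q A) (x : η.N A)) =
      ev η (bij_obj η _) (evM η p) (η.t (η.M A) x) := fun p => by
    rw [ev_Nmap, evM_comp_q, ev_ptHom, ev_t]; rfl
  refine funext fun Q => ?_
  obtain ⟨p, rfl⟩ : ∃ p, primeM η p = Q := ⟨_, (eq_primeM η hA Q).symm⟩
  have h := this p
  rw [← sub_eq_zero, ← map_sub, ev_eq_zero_iff] at h
  exact sub_eq_zero.mp h

theorem bijOn_Nmap_M {f : A →+* B} (hf : f.IsIntegral) (hN : Function.Bijective (η.Nmap f)) :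
    Set.BijOn (η.Nmap f) (η.M A) (η.M B) := by
  refine ⟨fun x hx => Nmap_mem_M η f hx, hN.1.injOn, fun y hy => ?_⟩
  obtain ⟨x, rfl⟩ := hN.2 y
  refine ⟨x, fun R _ _ _ hR g => ?_, rfl⟩
  let K := FractionRing R
  obtain ⟨ψ', hψ', -⟩ := existsUnique_extend η hN (L := K) hR ((algebraMap R K).comp g)
  have : ∀ b, ∃ r : R, algebraMap R K r = ψ' b := fun b => by
    obtain ⟨P, hP, hP0⟩ := hf b
    refine IsIntegrallyClosed.isIntegral_iff.mp ⟨P.map g, hP.map g, ?_⟩
    rw [Polynomial.eval₂_map, ← hψ', ← Polynomial.hom_eval₂, hP0, map_zero]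
  choose r hr using this
  have hinj := IsFractionRing.injective R K
  let g' : B →+* R :=
    { toFun := r
      map_one' := hinj (by rw [hr, map_one, map_one])
      map_zero' := hinj (by rw [hr, map_zero, map_zero])
      map_mul' := fun a b => hinj (by simp only [hr, map_mul])
      map_add' := fun a b => hinj (by simp only [hr, map_add]) }
  have hg : g'.comp f = g := RingHom.ext fun a => hinj (by
    show algebraMap R K (r (f a)) = _
    rw [hr]; exact RingHom.congr_fun hψ' a)
  rw [← hg, Nmap_comp_apply]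
  exact hy R hR g'

theorem bijective_q_M (hA : (minimalPrimes A).Finite) : Function.Bijective (η.q (η.M A)) := by
  have h := bijOn_Nmap_M η (isIntegral_q η hA) (Nmap_q_bijective η hA)
  refine ⟨fun x y e => ?_, fun y => ?_⟩
  · refine Subtype.ext (h.injOn x.2 y.2 ?_)
    rw [Nmap_q_eq_t η hA, Nmap_q_eq_t η hA]
    exact congrArg Subtype.val e
  · obtain ⟨x, hx, e⟩ := h.surjOn y.2
    exact ⟨⟨x, hx⟩, Subtype.ext ((Nmap_q_eq_t η hA ⟨x, hx⟩).symm.trans e)⟩

end GrothLib.EtaPt
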