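import Mathlib.AlgebraicGeometry.Morphisms.UniversallyOpen
import Mathlib.AlgebraicGeometry.Morphisms.FinitePresentation
import Mathlib.AlgebraicGeometry.Morphisms.Flat
import Mathlib.RingTheory.LocalRing.ResidueField.Fiber
import Mathlib.RingTheory.Ideal.MinimalPrime.Noetherian
import Mathlib.RingTheory.Ideal.GoingDown

/-! Irreducible components and affine images under flat morphisms of finite presentation. -/

namespace GrothLib.EtaPt

universe u

open AlgebraicGeometry CategoryTheory TopologicalSpace Topology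

theorem finite_minimalPrimes_of_flat {A B : Type u} [CommRing A] [CommRing B] [Algebra A B]
    [Module.Flat A B] [Algebra.FiniteType A B] (hA : (minimalPrimes A).Finite) :
    (minimalPrimes B).Finite := by
  let S : Set (Ideal B) := ⋃ p : {p : PrimeSpectrum A // p.asIdeal ∈ minimalPrimes A},
    (fun Q : Ideal (p.1.asIdeal.Fiber B) =>
      Q.comap (Algebra.TensorProduct.includeRight : B →ₐ[A] p.1.asIdeal.Fiber B)) ''
      (minimalPrimes (p.1.asIdeal.Fiber B))
  have : Finite {p : PrimeSpectrum A // p.asIdeal ∈ minimalPrimes A} := by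
    have := hA.to_subtype
    exact Finite.of_injective (fun p => (⟨p.1.asIdeal, p.2⟩ : minimalPrimes A))
      fun p q h => Subtype.ext (PrimeSpectrum.ext (congrArg Subtype.val h))
  have hS : S.Finite := Set.finite_iUnion fun p => by
    have : IsNoetherianRing (p.1.asIdeal.Fiber B) :=
      Algebra.FiniteType.isNoetherianRing p.1.asIdeal.ResidueField _
    exact (minimalPrimes.finite_of_isNoetherianRing _).image _
  refine hS.subset fun q hq => ?_
  have : q.IsPrime := hq.1.1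
  have hp : q.comap (algebraMap A B) ∈ minimalPrimes A := by
    have h := Algebra.HasGoingDown.iff_generalizingMap_primeSpectrumComap.1
      (inferInstance : Algebra.HasGoingDown A B)
    refine ⟨⟨inferInstance, bot_le⟩, fun p' hp' hle => ?_⟩
    have : p'.IsPrime := hp'.1
    obtain ⟨y, hy, hy'⟩ := h ((PrimeSpectrum.le_iff_specializes (⟨p', inferInstance⟩ : PrimeSpectrum A)
      (PrimeSpectrum.comap (algebraMap A B) ⟨q, inferInstance⟩)).1 hle)
    have hyq : y.asIdeal ≤ q :=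
      (PrimeSpectrum.le_iff_specializes y (⟨q, inferInstance⟩ : PrimeSpectrum B)).2 hy
    have hge : q ≤ y.asIdeal := hq.2 ⟨y.2, bot_le⟩ hyq
    have : p' = y.asIdeal.comap (algebraMap A B) := (congrArg PrimeSpectrum.asIdeal hy').symm
    rw [this]
    exact Ideal.comap_mono hge
  let P : PrimeSpectrum A := ⟨q.comap (algebraMap A B), inferInstance⟩
  obtain ⟨Q, hQ⟩ : ∃ Q : PrimeSpectrum (P.asIdeal.Fiber B),
      Q.asIdeal.comap (Algebra.TensorProduct.includeRight : B →ₐ[A] P.asIdeal.Fiber B) = q := by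
    refine ⟨PrimeSpectrum.preimageEquivFiber A B P ⟨⟨q, inferInstance⟩, rfl⟩, ?_⟩
    exact congrArg (fun x => x.1.asIdeal)
      ((PrimeSpectrum.preimageEquivFiber A B P).symm_apply_apply ⟨⟨q, inferInstance⟩, rfl⟩)
  obtain ⟨Q₀, hQ₀, hle⟩ := Ideal.exists_minimalPrimes_le (I := ⊥) (J := Q.asIdeal) bot_le
  refine Set.mem_iUnion.2 ⟨⟨P, hp⟩, Q₀, hQ₀, ?_⟩
  have : Q₀.IsPrime := hQ₀.1.1
  refine le_antisymm (hQ ▸ Ideal.comap_mono hle) (hq.2 ⟨Ideal.comap_isPrime _ _, bot_le⟩ ?_)
  exact hQ ▸ Ideal.comap_mono hle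

theorem finite_irreducibleComponents_iff_of_affine {X : Scheme.{u}} {U : X.Opens} (hU : IsAffineOpen U) :
    (irreducibleComponents ↥U).Finite ↔ (minimalPrimes Γ(X, U)).Finite := by
  have e : ↥U ≃ₜ PrimeSpectrum Γ(X, U) := Scheme.homeoOfIso hU.isoSpec
  have h1 : (irreducibleComponents (PrimeSpectrum Γ(X, U))).Finite ↔
      (minimalPrimes Γ(X, U)).Finite := by
    rw [← Set.finite_coe_iff, ← Set.finite_coe_iff]
    exact (Equiv.finite_iff (minimalPrimes.equivIrreducibleComponents (R := Γ(X, U))).toEquiv).symm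
  refine Iff.trans ?_ h1
  constructor
  · intro h
    refine (h.image fun t => e '' t).subset fun t ht => ⟨e ⁻¹' t, ?_, e.image_preimage t⟩
    exact preimage_mem_irreducibleComponents ht e.isOpenEmbedding
      (by rw [e.surjective.range_eq, Set.inter_univ]; exact ht.1.1)
  · intro h
    refine (h.image fun t => e ⁻¹' t).subset fun t ht => ⟨e.symm ⁻¹' t, ?_, ?_⟩
    · exact preimage_mem_irreducibleComponents ht e.symm.isOpenEmbedding
        (by rw [e.symm.surjective.range_eq, Set.inter_univ]; exact ht.1.1)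
    · ext x; simp

theorem finite_irreducibleComponents_of_cover {Z : Type u} [TopologicalSpace Z] {ι : Type*} [Finite ι]
    (W : ι → Opens Z) (hcov : ∀ z, ∃ i, z ∈ W i)
    (h : ∀ i, (irreducibleComponents ↥(W i)).Finite) : (irreducibleComponents Z).Finite := by
  refine (Set.finite_iUnion fun i => (h i).image
    fun t => closure ((Subtype.val : W i → Z) '' t)).subset fun t ht => ?_
  obtain ⟨z, hz⟩ := ht.1.1
  obtain ⟨i, hi⟩ := hcov z
  have hne : (t ∩ Set.range (Subtype.val : W i → Z)).Nonempty := ⟨z, hz, ⟨z, hi⟩, rfl⟩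
  refine Set.mem_iUnion.2 ⟨i, Subtype.val ⁻¹' t,
    preimage_mem_irreducibleComponents ht (W i).2.isOpenEmbedding_subtypeVal hne, ?_⟩
  exact closure_image_preimage_of_isPreirreducible _ (W i).2.isOpenEmbedding_subtypeVal.isOpenMap t
    ⟨⟨z, hi⟩, hz⟩ ht.1.2 (isClosed_of_mem_irreducibleComponents t ht)

theorem finite_irreducibleComponents {Y X : Scheme.{u}} (f : Y ⟶ X) [Flat f]
    [LocallyOfFinitePresentation f]
    (hX : ∀ U : X.Opens, IsCompact (U : Set X) → (irreducibleComponents (U : Type u)).Finite)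
    (V : Y.Opens) (hV : IsCompact (V : Set Y)) : (irreducibleComponents (V : Type u)).Finite := by
  have hloc : ∀ y : V, ∃ W : Y.Opens, (y : Y) ∈ W ∧ W ≤ V ∧ (irreducibleComponents ↥W).Finite := by
    rintro ⟨y, hy⟩
    obtain ⟨_, ⟨U, hU, rfl⟩, hyU, -⟩ :=
      X.isBasis_affineOpens.exists_subset_of_mem_open (Set.mem_univ (f y)) isOpen_univ
    obtain ⟨_, ⟨W, hW, rfl⟩, hyW, hWV⟩ := Y.isBasis_affineOpens.exists_subset_of_mem_open
      (show y ∈ V ⊓ f ⁻¹ᵁ U from ⟨hy, hyU⟩) (V ⊓ f ⁻¹ᵁ U).isOpen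
    refine ⟨W, hyW, fun z hz => (hWV hz).1, ?_⟩
    have e : W ≤ f ⁻¹ᵁ U := fun z hz => (hWV hz).2
    have h1 := f.flat_appLE hU hW e
    have h2 := f.finitePresentation_appLE hU hW e
    let _ : Algebra Γ(X, U) Γ(Y, W) := (f.appLE U W e).hom.toAlgebra
    have : Module.Flat Γ(X, U) Γ(Y, W) := h1
    have : Algebra.FinitePresentation Γ(X, U) Γ(Y, W) := h2
    exact (finite_irreducibleComponents_iff_of_affine hW).2 (finite_minimalPrimes_of_flat
      ((finite_irreducibleComponents_iff_of_affine hU).1 (hX U hU.isCompact)))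
  choose W hW hWV hfin using hloc
  obtain ⟨s, hs⟩ := hV.elim_finite_subcover (fun y => (W y : Set Y)) (fun y => (W y).isOpen)
    fun y hy => Set.mem_iUnion.2 ⟨⟨y, hy⟩, hW _⟩
  refine finite_irreducibleComponents_of_cover
    (fun i : s => (⟨Subtype.val ⁻¹' (W i.1 : Set Y), (W i.1).isOpen.preimage continuous_subtype_val⟩ :
      Opens ↥V)) (fun z => ?_) fun i => ?_
  · obtain ⟨i, hi, hzi⟩ := Set.mem_iUnion₂.1 (hs z.2)
    exact ⟨⟨i, hi⟩, hzi⟩
  · let e : {z : V // (z : Y) ∈ W i.1} ≃ₜ ↥(W i.1) :=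
      { toFun := fun z => ⟨z.1.1, z.2⟩
        invFun := fun z => ⟨⟨z.1, hWV _ z.2⟩, z.2⟩
        left_inv := fun _ => rfl
        right_inv := fun _ => rfl
        continuous_toFun := by fun_prop
        continuous_invFun := by fun_prop }
    refine ((hfin i.1).image fun t => e ⁻¹' t).subset fun t ht => ⟨e.symm ⁻¹' t, ?_, ?_⟩
    · exact preimage_mem_irreducibleComponents ht e.symm.isOpenEmbedding
        (by obtain ⟨z, hz⟩ := ht.1.1; exact ⟨z, hz, e.symm.surjective z⟩)
    · ext x; simp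

theorem exists_affineOpen_image_eq {X Y : Scheme.{u}} (f : Y ⟶ X) [Flat f] [Surjective f]
    [LocallyOfFinitePresentation f] (U : X.affineOpens) (x : X) (hx : x ∈ (U : X.Opens)) :
    ∃ V : X.affineOpens, x ∈ (V : X.Opens) ∧ (V : X.Opens) ≤ (U : X.Opens) ∧
      ∃ W : Y.affineOpens, f.base '' ((W : Y.Opens) : Set Y) = ((V : X.Opens) : Set X) := by
  obtain ⟨y, hy⟩ := f.surjective x
  obtain ⟨_, ⟨W, hW, rfl⟩, hyW, hWU⟩ := Y.isBasis_affineOpens.exists_subset_of_mem_open
    (show y ∈ f ⁻¹ᵁ (U : X.Opens) from show f y ∈ (U : X.Opens) from hy.symm ▸ hx) (f ⁻¹ᵁ (U : X.Opens)).isOpen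
  let V₀ : X.Opens := ⟨f '' (W : Set Y), f.isOpenMap _ W.isOpen⟩
  obtain ⟨g, hg, hxg⟩ := U.2.exists_basicOpen_le (V := V₀) ⟨x, y, hyW, hy⟩ hx
  refine ⟨⟨X.basicOpen g, U.2.basicOpen g⟩, hxg, X.basicOpen_le g,
    ⟨Y.basicOpen (f.appLE (U : X.Opens) W hWU g), hW.basicOpen _⟩, ?_⟩
  show f '' (Y.basicOpen (f.appLE (U : X.Opens) W hWU g) : Set Y) = (X.basicOpen g : Set X)
  rw [Scheme.basicOpen_appLE]
  refine Set.Subset.antisymm ?_ fun z hz => ?_
  · rintro _ ⟨w, hw, rfl⟩; exact hw.2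
  · obtain ⟨w, hw, rfl⟩ := hg hz
    exact ⟨w, ⟨hw, hz⟩, rfl⟩

end GrothLib.EtaPt
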